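import Groth.Agent.FrobSplitCohLib.CartierH1
import Groth.Agent.CohCmpLib.FrameTools

/-!
# The differential on the Frobenius pullback of a locally free module
-/

set_option autoImplicit false
set_option linter.style.haveILetI false
set_option linter.unusedSectionVars false
set_option backward.isDefEq.respectTransparency false
set_option backward.isDefEq.respectTransparency.types false
set_option maxHeartbeats 800000
universe u

open CategoryTheory CategoryTheory.Limits AlgebraicGeometry TopologicalSpace Opposite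
open ProjFormLib (res ger ger_res ger_add ger_smul section_ext IsFrame)
open KFlatLib (pb puSec tens)
open FrobSplitCohLib (dd dd_pow_mul dd_res dd_mul natCast_zero exists_pow_of_dd)
open scoped TensorProduct

noncomputable section

namespace FrobVBLib

variable {X : Scheme.{u}}

/-- Linear combination of a family of sections. -/
def comb {A : X.Modules} {n : ℕ} {U V : X.Opens} (e : Fin n → Γ(A, U)) (h : V ≤ U) (c : Fin n → Γ(X, V)) : Γ(A, V) :=
  ∑ i, c i • res A h (e i)

theorem ger_sum {A : X.Modules} {U : X.Opens} (y : X) (hy : y ∈ U) {ι : Type*} (s : Finset ι) (f : ι → Γ(A, U)) :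
    ger A y hy (∑ i ∈ s, f i) = ∑ i ∈ s, ger A y hy (f i) :=
  map_sum (A.presheaf.germ U y hy).hom f s

theorem res_sum {A : X.Modules} {U V : X.Opens} (h : V ≤ U) {ι : Type*} (s : Finset ι) (f : ι → Γ(A, U)) :
    res A h (∑ i ∈ s, f i) = ∑ i ∈ s, res A h (f i) :=
  map_sum (A.presheaf.map (homOfLE h).op).hom f s

theorem res_res {A : X.Modules} {U V W : X.Opens} (h : V ≤ U) (h' : W ≤ V) (m : Γ(A, U)) :
    res A h' (res A h m) = res A (h'.trans h) m :=
  AmpleLib.res_res A h h' m

theorem ger_comb {A : X.Modules} {n : ℕ} {U V : X.Opens} (e : Fin n → Γ(A, U)) (h : V ≤ U) (c : Fin n → Γ(X, V))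
    (y : X) (hy : y ∈ V) : ger A y hy (comb e h c) =
      Fintype.linearCombination (X.presheaf.stalk y) (fun i => ger A y (h hy) (e i))
        fun i => X.presheaf.germ V y hy (c i) := by
  rw [Fintype.linearCombination_apply]
  refine (ger_sum y hy _ _).trans (Finset.sum_congr rfl fun i _ => ?_)
  rw [ger_smul, ger_res]

theorem comb_res {A : X.Modules} {n : ℕ} {U V W : X.Opens} (e : Fin n → Γ(A, U)) (h : V ≤ U) (h' : W ≤ V)
    (c : Fin n → Γ(X, V)) :
    res A h' (comb e h c) = comb e (h'.trans h) fun i => X.presheaf.map (homOfLE h').op (c i) := by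
  refine (res_sum h' _ _).trans (Finset.sum_congr rfl fun i _ => ?_)
  exact (AmpleLib.res_smul A h' (c i) _).trans (congrArg (_ • ·) (res_res h h' (e i)))

theorem comb_injective {A : X.Modules} {n : ℕ} {U V : X.Opens} {e : Fin n → Γ(A, U)} (he : IsFrame A e) (h : V ≤ U) :
    Function.Injective (comb e h) := fun c c' hcc => funext fun i => by
  refine TopCat.Presheaf.section_ext X.sheaf V _ _ fun y hy => ?_
  have h1 := congrArg (ger A y hy) hcc
  rw [ger_comb, ger_comb] at h1
  exact congr_fun ((he y (h hy)).1 h1) i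

theorem exists_common {n : ℕ} {V : X.Opens} {y : X} (hy : y ∈ V) (W : Fin n → X.Opens) (hW : ∀ i, y ∈ W i) :
    ∃ O : X.Opens, y ∈ O ∧ O ≤ V ∧ ∀ i, O ≤ W i := by
  refine ⟨V ⊓ Finset.univ.inf W, ⟨hy, ?_⟩, inf_le_left, fun i => inf_le_right.trans (Finset.inf_le (Finset.mem_univ i))⟩
  change y ∈ ((Finset.univ.inf W : X.Opens) : Set X)
  rw [Opens.coe_finset_inf, Finset.inf_eq_iInf]
  simp only [Function.comp_apply, Set.iInf_eq_iInter, Set.mem_iInter]
  exact fun i _ => hW i

theorem exists_comb_near {A : X.Modules} {n : ℕ} {U V : X.Opens} {e : Fin n → Γ(A, U)} (he : IsFrame A e) (h : V ≤ U)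
    (m : Γ(A, V)) (y : X) (hy : y ∈ V) :
    ∃ (W : X.Opens) (hW : W ≤ V), y ∈ W ∧ ∃ c, comb e (hW.trans h) c = res A hW m := by
  obtain ⟨a, ha⟩ := (he y (h hy)).2 (ger A y hy m)
  choose Wi hWi s hs using fun i => X.presheaf.exists_germ_eq (x := y) (a i)
  obtain ⟨O, hyO, hOV, hOW⟩ := exists_common hy Wi hWi
  let c := fun i => X.presheaf.map (homOfLE (hOW i)).op (s i)
  have hg : ger A y hyO (comb e (hOV.trans h) c) = ger A y hyO (res A hOV m) := by
    rw [ger_comb, ger_res, ← ha]
    refine congrArg _ (funext fun i => ?_)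
    exact (TopCat.Presheaf.germ_res_apply X.presheaf (homOfLE (hOW i)) y hyO (s i)).trans (hs i)
  obtain ⟨W, hyW, i₁, i₂, heq⟩ := TopCat.Presheaf.germ_eq A.presheaf y hyO hyO _ _ hg
  refine ⟨W, i₁.le.trans hOV, hyW, fun i => X.presheaf.map (homOfLE i₁.le).op (c i), ?_⟩
  refine (comb_res e (hOV.trans h) i₁.le c).symm.trans ?_
  exact heq.trans (res_res hOV i₂.le m)

variable (k : Type u) [Field k] [X.Over (Spec (CommRingCat.of k))] (p : ℕ) [hp : Fact p.Prime] [CharP k p]
  [PerfectRing k p] [FrobSch.IsCharP X p] [QuasiSeparated (X ↘ Spec (CommRingCat.of k))] [IsIntegral X]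

/-- The Frobenius pullback. -/
abbrev P (p : ℕ) [Fact p.Prime] [FrobSch.IsCharP X p] (E : X.Modules) : X.Modules := pb (FrobSch.frob X p) E

/-- The sheaf of differentials. -/
abbrev Om : X.Modules := Omega.sheaf (X ↘ Spec (CommRingCat.of k))

variable {E : X.Modules}

/-- The Frobenius pullback of a section. -/
def q {U : X.Opens} (a : Γ(E, U)) : Γ(P p E, U) := puSec (FrobSch.frob X p) a

/-- Frobenius pullback of sections, as a map of abelian sheaves. -/
def eta (E : X.Modules) : Coh.toAb E ⟶ Coh.toAb (P p E) :=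
  ⟨{ app := fun U => AddCommGrpCat.ofHom (AddMonoidHom.mk'
        (fun m : Γ(E, U.unop) => (q p m : Γ(P p E, U.unop)))
        fun a b => map_add (((Scheme.Modules.pullbackPushforwardAdjunction (FrobSch.frob X p)).unit.app E).app U.unop).hom a b)
     naturality := fun U _V g => ConcreteCategory.hom_ext _ _ fun (m : Γ(E, U.unop)) =>
       (QCohLib.app_map ((Scheme.Modules.pullbackPushforwardAdjunction (FrobSch.frob X p)).unit.app E) g.unop m) }⟩

theorem q_smul {U : X.Opens} (r : Γ(X, U)) (a : Γ(E, U)) : q p (r • a) = r ^ p • q p a :=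
  (KFlatLib.puSec_smul (FrobSch.frob X p) r a).trans rfl

theorem q_add {U : X.Opens} (a b : Γ(E, U)) : q p (a + b) = q p a + q p b :=
  map_add (((Scheme.Modules.pullbackPushforwardAdjunction (FrobSch.frob X p)).unit.app E).app U).hom a b

theorem q_sum {U : X.Opens} {ι : Type*} (s : Finset ι) (f : ι → Γ(E, U)) : q p (∑ i ∈ s, f i) = ∑ i ∈ s, q p (f i) :=
  map_sum (((Scheme.Modules.pullbackPushforwardAdjunction (FrobSch.frob X p)).unit.app E).app U).hom f s

theorem res_q {U V : X.Opens} (h : V ≤ U) (a : Γ(E, U)) : res (P p E) h (q p a) = q p (res E h a) :=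
  (QCohLib.app_map ((Scheme.Modules.pullbackPushforwardAdjunction (FrobSch.frob X p)).unit.app E) (homOfLE h) a).symm

theorem isFrame_q {n : ℕ} {U : X.Opens} {e : Fin n → Γ(E, U)} (he : IsFrame E e) :
    IsFrame (P p E) (U := U) fun i => q p (e i) := CohCmpLib.isFrame_puSec (FrobSch.frob X p) he

theorem q_comb {n : ℕ} {U V : X.Opens} (e : Fin n → Γ(E, U)) (h : V ≤ U) (c : Fin n → Γ(X, V)) :
    q p (comb e h c) = comb (fun i => q p (e i)) h fun i => c i ^ p := by
  refine (q_sum p _ _).trans (Finset.sum_congr rfl fun i _ => ?_)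
  rw [q_smul, res_q]

theorem dd_add {U : X.Opens} (a b : Γ(X, U)) : dd k U (a + b) = dd k U a + dd k U b := map_add _ a b

theorem dd_sum {U : X.Opens} {ι : Type*} (s : Finset ι) (f : ι → Γ(X, U)) :
    dd k U (∑ i ∈ s, f i) = ∑ i ∈ s, dd k U (f i) :=
  map_sum (AddMonoidHom.mk' (dd k U) (dd_add k)) f s

/-- The specification of the differential. -/
def IsD {U : X.Opens} (m : Γ(P p E, U)) (t : Γ(tens (P p E) (Om k), U)) : Prop :=
  ∀ (W : X.Opens) (h : W ≤ U) (n : ℕ) (e : Fin n → Γ(E, W)), IsFrame E e → ∀ c : Fin n → Γ(X, W),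
    comb (fun i => q p (e i)) le_rfl c = res (P p E) h m →
      res (tens (P p E) (Om k)) h t = ProjFormLib.phi (fun i => q p (e i)) (Om k) le_rfl fun i => dd k W (c i)

theorem indep {V : X.Opens} {n m : ℕ} {e : Fin n → Γ(E, V)} {g : Fin m → Γ(E, V)} (he : IsFrame E e)
    (a : Fin n → Γ(X, V)) (b : Fin m → Γ(X, V))
    (hab : comb (fun i => q p (e i)) le_rfl a = comb (fun i => q p (g i)) le_rfl b) :
    ProjFormLib.phi (fun i => q p (e i)) (Om k) le_rfl (fun i => dd k V (a i)) =
      ProjFormLib.phi (fun i => q p (g i)) (Om k) le_rfl (fun i => dd k V (b i)) := by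
  refine section_ext _ _ fun y hy => ?_
  choose W hW hyW u hu using fun i => exists_comb_near he le_rfl (g i) y hy
  obtain ⟨O, hyO, hOV, hOW⟩ := exists_common hy W hyW
  let v : Fin m → Fin n → Γ(X, O) := fun i j => X.presheaf.map (homOfLE (hOW i)).op (u i j)
  have hv : ∀ i, comb e hOV (v i) = res E hOV (g i) := fun i => by
    have h1 := congrArg (res E (hOW i)) (hu i)
    rw [comb_res, res_res] at h1
    exact h1
  let bo := fun i => X.presheaf.map (homOfLE hOV).op (b i)
  let ao := fun j => X.presheaf.map (homOfLE hOV).op (a j)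
  have hqg : ∀ i, res (P p E) hOV (q p (g i)) = comb (fun j => q p (e j)) hOV (fun j => v i j ^ p) := fun i => by
    rw [res_q, ← hv, q_comb]
  have ha : ao = fun j => ∑ i, v i j ^ p * bo i := by
    refine comb_injective (isFrame_q p he) hOV ?_
    have h1 := congrArg (res (P p E) hOV) hab
    rw [comb_res, comb_res] at h1
    refine h1.trans ?_
    show ∑ i, bo i • res (P p E) hOV (q p (g i)) = ∑ j, (∑ i, v i j ^ p * bo i) • res (P p E) hOV (q p (e j))
    rw [Finset.sum_congr rfl fun j _ => Finset.sum_smul, Finset.sum_comm]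
    refine Finset.sum_congr rfl fun i _ => ?_
    rw [hqg, comb, Finset.smul_sum]
    exact Finset.sum_congr rfl fun j _ => by rw [smul_smul, mul_comm]
  rw [ProjFormLib.ger_phi, ProjFormLib.ger_phi]
  refine congrArg (KFlatLib.stalkTensorLin (P p E) (Om k) y) ?_
  have hgd : ∀ c : Γ(X, V), ger (Om k) y hy (dd k V c) =
      ger (Om k) y hyO (dd k O (X.presheaf.map (homOfLE hOV).op c)) := fun c => by
    rw [dd_res k hOV c]
    exact (ger_res (Om k) hOV y hyO _).symm
  have hgq : ∀ i, ger (P p E) y hy (q p (g i)) =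
      ∑ j, X.presheaf.germ O y hyO (v i j ^ p) • ger (P p E) y hy (q p (e j)) := fun i => by
    rw [← ger_res (P p E) hOV y hyO (q p (g i)), hqg, ger_comb, Fintype.linearCombination_apply]
  calc ∑ j, ger (P p E) y hy (q p (e j)) ⊗ₜ[X.presheaf.stalk y] ger (Om k) y hy (dd k V (a j))
      = ∑ j, ∑ i, ger (P p E) y hy (q p (e j)) ⊗ₜ[X.presheaf.stalk y]
          (X.presheaf.germ O y hyO (v i j ^ p) • ger (Om k) y hy (dd k V (b i))) :=
        Finset.sum_congr rfl fun j _ => by
          rw [hgd, show X.presheaf.map (homOfLE hOV).op (a j) = ∑ i, v i j ^ p * bo i from congr_fun ha j, dd_sum,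
            ger_sum, TensorProduct.tmul_sum]
          refine Finset.sum_congr rfl fun i _ => ?_
          rw [dd_pow_mul, ger_smul, hgd (b i)]
    _ = ∑ i, ger (P p E) y hy (q p (g i)) ⊗ₜ[X.presheaf.stalk y] ger (Om k) y hy (dd k V (b i)) := by
        rw [Finset.sum_comm]
        refine Finset.sum_congr rfl fun i _ => ?_
        rw [hgq, TensorProduct.sum_tmul]
        exact Finset.sum_congr rfl fun j _ => (TensorProduct.smul_tmul _ _ _).symm

variable (hE : FlatMod.IsFinLocFree E)

include hE in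
theorem exists_coeff {U : X.Opens} (m : Γ(P p E, U)) (y : U) :
    ∃ (W : X.Opens) (hW : W ≤ U) (n : ℕ) (e : Fin n → Γ(E, W)) (c : Fin n → Γ(X, W)),
      y.1 ∈ W ∧ IsFrame E e ∧ comb (fun i => q p (e i)) le_rfl c = res (P p E) hW m := by
  obtain ⟨W₀, n, e₀, hy₀, he₀⟩ := ProjFormLib.exists_frame hE y.1
  obtain ⟨W, hW, hyW, c, hc⟩ := exists_comb_near (isFrame_q p he₀) (inf_le_left : W₀ ⊓ U ≤ W₀)
    (res (P p E) inf_le_right m) y.1 ⟨hy₀, y.2⟩
  refine ⟨W, hW.trans inf_le_right, n, fun i => res E (hW.trans inf_le_left) (e₀ i), c, hyW, he₀.res _, ?_⟩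
  rw [res_res] at hc
  refine Eq.trans ?_ hc
  exact Finset.sum_congr rfl fun i _ => by simp only [← res_q, res_res]

include hE in
theorem IsD.unique {U : X.Opens} {m : Γ(P p E, U)} {t t' : Γ(tens (P p E) (Om k), U)} (h : IsD k p m t)
    (h' : IsD k p m t') : t = t' := by
  choose W hW n e c hy he hc using exists_coeff p hE m
  let S : TopCat.Sheaf AddCommGrpCat.{u} X.toTopCat := (QCohLib.toAbF X).obj (tens (P p E) (Om k))
  refine TopCat.Sheaf.eq_of_locally_eq' S W U (fun y => homOfLE (hW y))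
    (fun y hy' => Opens.mem_iSup.2 ⟨⟨y, hy'⟩, hy _⟩) _ _ fun y => ?_
  exact (h _ (hW y) _ _ (he y) _ (hc y)).trans (h' _ (hW y) _ _ (he y) _ (hc y)).symm

theorem phi_dd_res {V W : X.Opens} {n : ℕ} (e : Fin n → Γ(E, V)) (c : Fin n → Γ(X, V)) (h : W ≤ V) :
    res (tens (P p E) (Om k)) h (ProjFormLib.phi (fun i => q p (e i)) (Om k) le_rfl fun i => dd k V (c i)) =
      ProjFormLib.phi (fun i => q p (res E h (e i))) (Om k) le_rfl
        fun i => dd k W (X.presheaf.map (homOfLE h).op (c i)) := by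
  rw [ProjFormLib.phi_res]
  refine Finset.sum_congr rfl fun i _ => ?_
  simp only [← res_q, res_res, dd_res]

theorem comb_q_res {U V W : X.Opens} {n : ℕ} (hV : V ≤ U) (m : Γ(P p E, U)) (e : Fin n → Γ(E, V))
    (c : Fin n → Γ(X, V)) (hc : comb (fun i => q p (e i)) le_rfl c = res (P p E) hV m) (h : W ≤ V) :
    comb (fun i => q p (res E h (e i))) le_rfl (fun i => X.presheaf.map (homOfLE h).op (c i)) =
      res (P p E) (h.trans hV) m := by
  rw [← res_res hV h, ← hc, comb_res]
  exact Finset.sum_congr rfl fun i _ => by simp only [← res_q, res_res]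

include hE in
theorem exists_isD {U : X.Opens} (m : Γ(P p E, U)) : ∃ t, IsD k p m t := by
  choose W hW n e c hy he hc using exists_coeff p hE m
  let S : TopCat.Sheaf AddCommGrpCat.{u} X.toTopCat := (QCohLib.toAbF X).obj (tens (P p E) (Om k))
  let loc := fun y => ProjFormLib.phi (fun i => q p (e y i)) (Om k) (le_refl (W y)) fun i => dd k (W y) (c y i)
  have compat : ∀ y z, res _ (inf_le_left : W y ⊓ W z ≤ W y) (loc y) = res _ (inf_le_right : W y ⊓ W z ≤ W z) (loc z) :=
    fun y z => by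
      rw [phi_dd_res, phi_dd_res]
      refine indep k p ((he y).res _) _ _ ?_
      exact (comb_q_res p (hW y) m _ _ (hc y) inf_le_left).trans (comb_q_res p (hW z) m _ _ (hc z) inf_le_right).symm
  obtain ⟨t, ht, -⟩ := TopCat.Sheaf.existsUnique_gluing' S W U (fun y => homOfLE (hW y))
    (fun y hy' => Opens.mem_iSup.2 ⟨⟨y, hy'⟩, hy _⟩) loc compat
  refine ⟨t, fun V hV l f hf a ha => ?_⟩
  refine TopCat.Sheaf.eq_of_locally_eq' S (fun y : U => V ⊓ W y) V (fun y => homOfLE inf_le_left)
    (fun y hy' => Opens.mem_iSup.2 ⟨⟨y, hV hy'⟩, hy', hy _⟩) _ _ fun y => ?_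
  show res _ (inf_le_left : V ⊓ W y ≤ V) (res _ hV t) = res _ inf_le_left _
  rw [res_res, ← res_res (hW y) (inf_le_right : V ⊓ W y ≤ W y),
    show res (tens (P p E) (Om k)) (hW y) t = loc y from ht y, phi_dd_res, phi_dd_res]
  refine indep k p ((he y).res _) _ _ ?_
  exact (comb_q_res p (hW y) m _ _ (hc y) inf_le_right).trans (comb_q_res p hV m _ _ ha inf_le_left).symm

theorem IsD.res' {U V : X.Opens} (hVU : V ≤ U) {m : Γ(P p E, U)} {t : Γ(tens (P p E) (Om k), U)}
    (h : IsD k p m t) : IsD k p (res (P p E) hVU m) (res _ hVU t) := fun W hW n e he c hc => by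
  rw [res_res] at hc ⊢
  exact h W (hW.trans hVU) n e he c hc

include hE in
/-- Identifying a differential on a cover. -/
theorem isD_of_cover {U : X.Opens} {m : Γ(P p E, U)} {t : Γ(tens (P p E) (Om k), U)}
    (h : ∀ y ∈ U, ∃ (W : X.Opens) (hW : W ≤ U), y ∈ W ∧ IsD k p (res (P p E) hW m) (res _ hW t)) : IsD k p m t := by
  obtain ⟨t₀, ht₀⟩ := exists_isD k p hE m
  suffices ht : t = t₀ by rwa [ht]
  choose W hW hy hD using fun y : U => h y.1 y.2
  let S : TopCat.Sheaf AddCommGrpCat.{u} X.toTopCat := (QCohLib.toAbF X).obj (tens (P p E) (Om k))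
  exact TopCat.Sheaf.eq_of_locally_eq' S W U (fun y => homOfLE (hW y))
    (fun y hy' => Opens.mem_iSup.2 ⟨⟨y, hy'⟩, hy _⟩) _ _
    fun y => IsD.unique k p hE (hD y) (IsD.res' k p (hW y) ht₀)

theorem isD_comb {W : X.Opens} {n : ℕ} {e : Fin n → Γ(E, W)} (he : IsFrame E e) (c : Fin n → Γ(X, W)) :
    IsD k p (comb (fun i => q p (e i)) le_rfl c)
      (ProjFormLib.phi (fun i => q p (e i)) (Om k) le_rfl fun i => dd k W (c i)) := fun V hV l f hf a ha => by
  rw [phi_dd_res]
  refine indep k p (he.res hV) _ _ ?_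
  rw [ha, comb_res]
  exact Finset.sum_congr rfl fun i _ => by simp only [← res_q, res_res]

include hE in
theorem IsD.add {U : X.Opens} {m m' : Γ(P p E, U)} {t t' : Γ(tens (P p E) (Om k), U)} (h : IsD k p m t)
    (h' : IsD k p m' t') : IsD k p (m + m') (t + t') := by
  refine isD_of_cover k p hE fun y hy => ?_
  obtain ⟨W₁, hW₁, n, e, c, hy₁, he, hc⟩ := exists_coeff p hE m ⟨y, hy⟩
  obtain ⟨W, hW, hyW, c', hc'⟩ := exists_comb_near (isFrame_q p he) le_rfl (res (P p E) hW₁ m') y hy₁
  rw [res_res] at hc'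
  have hc2 : comb (fun i => q p (res E hW (e i))) le_rfl c' = res (P p E) (hW.trans hW₁) m' :=
    Eq.trans (Finset.sum_congr rfl fun i _ => by simp only [← res_q, res_res]) hc'
  have hc1 := comb_q_res p hW₁ m e c hc hW
  refine ⟨W, hW.trans hW₁, hyW, ?_⟩
  have e1 : res (P p E) (hW.trans hW₁) (m + m') =
      comb (fun i => q p (res E hW (e i))) le_rfl ((fun i => X.presheaf.map (homOfLE hW).op (c i)) + c') := by
    rw [show res (P p E) (hW.trans hW₁) (m + m') = res _ _ m + res _ _ m' from map_add _ _ _, ← hc1, ← hc2,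
      comb, comb, comb, ← Finset.sum_add_distrib]
    exact Finset.sum_congr rfl fun i _ => by rw [Pi.add_apply, add_smul]
  have e2 : res (tens (P p E) (Om k)) (hW.trans hW₁) (t + t') =
      ProjFormLib.phi (fun i => q p (res E hW (e i))) (Om k) le_rfl
        (fun i => dd k W (((fun i => X.presheaf.map (homOfLE hW).op (c i)) + c') i)) := by
    rw [show res (tens (P p E) (Om k)) (hW.trans hW₁) (t + t') = res _ _ t + res _ _ t' from map_add _ _ _,
      h W _ n _ (he.res hW) _ hc1, h' W _ n _ (he.res hW) _ hc2]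
    refine section_ext _ _ fun z hz => ?_
    rw [ger_add, ProjFormLib.ger_phi, ProjFormLib.ger_phi, ProjFormLib.ger_phi, ProjFormLib.stalkPhi,
      ProjFormLib.stalkPhi, ProjFormLib.stalkPhi]
    refine (map_add (KFlatLib.stalkTensorLin (P p E) (Om k) z) _ _).symm.trans (congrArg _ ?_)
    refine Finset.sum_add_distrib.symm.trans (Finset.sum_congr rfl fun i _ => ?_)
    refine (TensorProduct.tmul_add _ _ _).symm.trans (congrArg _ ?_)
    exact ((congrArg (ger (Om k) z hz) (dd_add k _ (c' i))).trans (ger_add (Om k) z hz _ _)).symm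
  rw [e1, e2]
  exact isD_comb k p (he.res hW) _

/-- The differential. -/
def dMap : Coh.toAb (P p E) ⟶ Coh.toAb (tens (P p E) (Om k)) :=
  ⟨{ app := fun U => AddCommGrpCat.ofHom (AddMonoidHom.mk'
       (fun m : Γ(P p E, U.unop) => (exists_isD k p hE m).choose) fun m m' =>
         IsD.unique k p hE (exists_isD k p hE (m + m')).choose_spec
           (IsD.add k p hE (exists_isD k p hE m).choose_spec (exists_isD k p hE m').choose_spec))
     naturality := fun {U V} i => by
       ext m
       exact IsD.unique k p hE (exists_isD k p hE _).choose_spec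
         (IsD.res' k p i.unop.le (exists_isD k p hE m).choose_spec) }⟩

theorem dd_pow {U : X.Opens} (a : Γ(X, U)) : dd k U (a ^ p) = 0 := by
  have hd1 : dd k U (1 : Γ(X, U)) = 0 := by
    have := dd_mul k (1 : Γ(X, U)) 1
    rwa [mul_one, one_smul, left_eq_add] at this
  rw [← mul_one (a ^ p), dd_pow_mul, hd1, smul_zero]

theorem phi_zero {V : X.Opens} {n : ℕ} (e : Fin n → Γ(E, V)) :
    ProjFormLib.phi (fun i => q p (e i)) (Om k) le_rfl (fun _ => (0 : Γ(Om k, V))) = 0 := by
  refine section_ext _ _ fun z hz => ?_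
  rw [ProjFormLib.ger_phi]
  refine ((congrArg (KFlatLib.stalkTensorLin (P p E) (Om k) z) (Finset.sum_eq_zero fun i _ => ?_)).trans
    (map_zero (KFlatLib.stalkTensorLin (P p E) (Om k) z))).trans (CohCmpLib.ger_zero _ z hz).symm
  rw [CohCmpLib.ger_zero _ z hz, TensorProduct.tmul_zero]

theorem eta_dMap : eta p E ≫ dMap k p hE = 0 := by
  ext U a
  change (exists_isD k p hE (q p a)).choose = 0
  refine IsD.unique k p hE (exists_isD k p hE _).choose_spec fun W hW n e he c hc => ?_
  rw [show res (tens (P p E) (Om k)) hW (0 : Γ(tens (P p E) (Om k), U.unop)) = 0 from map_zero _]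
  refine section_ext _ _ fun y hy => ?_
  obtain ⟨O, hO, hyO, r, hr⟩ := exists_comb_near he le_rfl (res E hW a) y hy
  rw [res_res] at hr
  have h1 : (fun i => X.presheaf.map (homOfLE hO).op (c i)) = fun i => r i ^ p := by
    refine comb_injective (isFrame_q p he) hO ?_
    rw [← comb_res (fun i => q p (e i)) le_rfl hO c, hc, res_res, res_q, ← hr, q_comb]
  rw [← ger_res _ hO y hyO, ← ger_res _ hO y hyO, phi_dd_res,
    show res (tens (P p E) (Om k)) hO (0 : Γ(tens (P p E) (Om k), W)) = 0 from map_zero _]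
  refine congrArg (ger _ y hyO) (Eq.symm ((congrArg (ProjFormLib.phi _ (Om k) le_rfl) (funext fun i => ?_)).trans
    (phi_zero k p fun i => res E hO (e i))))
  rw [congr_fun h1 i]
  exact dd_pow k p _

theorem epi_lift (hX : Pi1.IsNormalScheme X) :
    Epi (kernel.lift (dMap k p hE) (eta p E) (eta_dMap k p hE)) := by
  let lf := kernel.lift (dMap k p hE) (eta p E) (eta_dMap k p hE)
  refine (Sheaf.isLocallySurjective_iff_epi' (φ := lf)).mp
    ((TopCat.Presheaf.isLocallySurjective_iff _).mpr fun V s y hy => ?_)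
  let m : Γ(P p E, V) := (kernel.ι (dMap k p hE)).hom.app (op V) s
  have hm : (exists_isD k p hE m).choose = 0 :=
    congrArg (fun g : _ ⟶ Coh.toAb (tens (P p E) (Om k)) => g.hom.app (op V) s) (kernel.condition (dMap k p hE))
  obtain ⟨W₀, hW₀, n, e₀, c₀, hy₀, he₀, hc₀⟩ := exists_coeff p hE m ⟨y, hy⟩
  obtain ⟨W, hWaff, hyW, hle⟩ := Opens.isBasis_iff_nbhd.mp X.isBasis_affineOpens hy₀
  let e := fun i => res E hle (e₀ i)
  let c := fun i => X.presheaf.map (homOfLE hle).op (c₀ i)
  have he : IsFrame E e := he₀.res hle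
  have hc := comb_q_res p hW₀ m e₀ c₀ hc₀ hle
  have h0 := (exists_isD k p hE m).choose_spec W (hle.trans hW₀) n e he c hc
  rw [hm, show res (tens (P p E) (Om k)) (hle.trans hW₀) (0 : Γ(tens (P p E) (Om k), V)) = 0 from map_zero _,
    ← phi_zero k p e] at h0
  have h1 := ProjFormLib.phi_injective (Om k) (isFrame_q p he) le_rfl h0
  choose a ha using fun i => exists_pow_of_dd k p hX hWaff ⟨⟨y, hyW⟩⟩ (c i) (congr_fun h1 i).symm
  refine ⟨W, hle.trans hW₀, ⟨comb e le_rfl a, ?_⟩, hyW⟩
  have inj : Function.Injective ((kernel.ι (dMap k p hE)).hom.app (op W)) :=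
    (AddCommGrpCat.mono_iff_injective _).1 inferInstance
  refine inj ?_
  have h2 : (lf ≫ kernel.ι (dMap k p hE)).hom.app (op W) (comb e le_rfl a) = q p (comb e le_rfl a) :=
    congrArg (fun g : Coh.toAb E ⟶ Coh.toAb (P p E) => g.hom.app (op W) (comb e le_rfl a)) (kernel.lift_ι _ _ _)
  refine h2.trans ?_
  rw [q_comb, show (fun i => a i ^ p) = c from funext ha, hc]
  exact (ConcreteCategory.congr_hom ((kernel.ι (dMap k p hE)).hom.naturality (homOfLE (hle.trans hW₀)).op) s).symm

include k hE in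
theorem mono_eta : Mono (eta p E) := by
  refine (Sheaf.Hom.mono_iff_presheaf_mono _ _ _).mpr ?_
  haveI : ∀ U, Mono ((eta p E).hom.app U) := fun U => by
    refine (AddCommGrpCat.mono_iff_injective _).mpr ((injective_iff_map_eq_zero _).mpr fun (a : Γ(E, U.unop)) h => ?_)
    change q p a = 0 at h
    refine section_ext _ _ fun y hy => ?_
    obtain ⟨W₀, n, e, hy₀, he⟩ := ProjFormLib.exists_frame hE y
    obtain ⟨W, hW, hyW, r, hr⟩ := exists_comb_near he (inf_le_left : W₀ ⊓ U.unop ≤ W₀) (res E inf_le_right a) y ⟨hy₀, hy⟩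
    rw [res_res] at hr
    have h1 : (fun i => r i ^ p) = fun _ => (0 : Γ(X, W)) := by
      refine comb_injective (isFrame_q p he) (hW.trans inf_le_left) ?_
      rw [← q_comb, hr, ← res_q, h]
      exact (map_zero _).trans (Finset.sum_eq_zero fun i _ => zero_smul _ _).symm
    have h2 : r = fun _ => 0 := funext fun i => (pow_eq_zero_iff hp.out.ne_zero).mp (congr_fun h1 i)
    rw [h2] at hr
    rw [← ger_res E (hW.trans inf_le_right) y hyW a, ← hr,
      show comb e (hW.trans inf_le_left) (fun _ => (0 : Γ(X, W))) = 0 from Finset.sum_eq_zero fun i _ => zero_smul _ _,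
      CohCmpLib.ger_zero, CohCmpLib.ger_zero]
  exact NatTrans.mono_of_mono_app _

include hE in
theorem eta_H1_injective (hX : Pi1.IsNormalScheme X)
    (h0 : Subsingleton (Coh.HH X (tens (P p E) (Om k)) 0)) (x : Coh.HH X E 1)
    (hx : Sheaf.H.map (eta p E) 1 x = 0) : x = 0 := by
  let D := dMap k p hE
  let lf := kernel.lift D (eta p E) (eta_dMap k p hE)
  haveI : Epi lf := epi_lift k p hE hX
  haveI hmono := mono_eta k p hE
  haveI : Mono (lf ≫ kernel.ι D) := by
    rw [show lf ≫ kernel.ι D = eta p E from kernel.lift_ι _ _ _]; exact hmono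
  haveI : Mono lf := mono_of_mono lf (kernel.ι D)
  haveI : IsIso lf := isIso_of_mono_of_epi lf
  have w : kernel.ι D ≫ Abelian.factorThruImage D = 0 := by
    rw [← cancel_mono (Abelian.image.ι D), Category.assoc, Abelian.image.fac, kernel.condition, zero_comp]
  have hS := FrobSplitCohLib.shortExact_kerIm D w
  haveI : Subsingleton (Sheaf.H (Abelian.image D) 0) := by
    refine ⟨fun a b => Abelian.Ext.addEquiv₀.injective ((cancel_mono (Abelian.image.ι D)).1 ?_)⟩
    rw [← Sheaf.H.addEquiv₀_map, ← Sheaf.H.addEquiv₀_map]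
    exact congrArg _ (@Subsingleton.elim (Coh.HH X (tens (P p E) (Om k)) 0) h0 _ _)
  let y : Sheaf.H (kernel D) 1 := Sheaf.H.map lf 1 x
  have hy2 : Sheaf.H.map (kernel.ι D) 1 y = 0 := by
    show Sheaf.H.map (kernel.ι D) 1 (Sheaf.H.map lf 1 x) = 0
    rw [← Sheaf.H.map_comp_apply, show lf ≫ kernel.ι D = eta p E from kernel.lift_ι _ _ _]
    exact hx
  obtain ⟨z, hz⟩ := Abelian.Ext.covariant_sequence_exact₁ _ hS y hy2 (show 0 + 1 = 1 from rfl)
  have hy : y = 0 := by
    rw [← hz, @Subsingleton.elim (Sheaf.H (Abelian.image D) 0) _ z 0]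
    exact Abelian.Ext.zero_comp ..
  have h := congrArg (Sheaf.H.map (inv lf) 1) hy
  rw [map_zero] at h
  change Sheaf.H.map (inv lf) 1 (Sheaf.H.map lf 1 x) = 0 at h
  rw [← Sheaf.H.map_comp_apply, IsIso.hom_inv_id, Sheaf.H.map_id_apply] at h
  exact h

end FrobVBLib
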